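import Groth.Agent.DimOne.Geom
import Groth.Agent.DimOne.Ufd
import Groth.Agent.UFDLib.Regular
import Groth.Agent.SpQS.RedInduced
import Groth.Agent.AlgSpLib.StalkSupport
import Groth.Agent.AlgSpLib.SepAffine
import Groth.Agent.AlgSpLib.NoethPts
import Groth.Agent.SpChev.FinQACore
import Groth.Agent.S0065
import Groth.Prelude.Def_AlgSpSub

/-!
# The complement of a dense affine open in a separated regular space is a Cartier divisor
-/

set_option autoImplicit false
set_option linter.style.haveILetI false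

universe u

open CategoryTheory CategoryTheory.Limits AlgebraicGeometry

set_option backward.isDefEq.respectTransparency false

namespace Groth.Agent.SpCartier

open _root_.AlgSp Groth.Agent.AlgSpLib Groth.Agent.SpChev

/-- the kernel of a quasi-compact map from a reduced scheme is radical -/
theorem ker_eq_vanishingIdeal {X C : Scheme.{u}} [IsReduced C] (g : C ⟶ X) [QuasiCompact g] :
    g.ker = Scheme.IdealSheafData.vanishingIdeal g.ker.support := by
  rw [Scheme.IdealSheafData.vanishingIdeal_support]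
  refine le_antisymm (Scheme.IdealSheafData.le_radical _) fun U => ?_
  rw [Scheme.IdealSheafData.radical_ideal, Scheme.Hom.ker_apply]
  intro a ha
  obtain ⟨n, hn⟩ := Ideal.mem_radical_iff.mp ha
  rw [RingHom.mem_ker, map_pow] at hn
  rw [RingHom.mem_ker]
  exact IsReduced.eq_zero _ ⟨n, hn⟩

/-- the reduced complement of a dense affine open is Cartier when the local rings there are factorial -/
theorem isEffCartierIdeal_vanishingIdeal (X : Scheme.{u}) [IsLocallyNoetherian X]
    (U : X.Opens) [IsAffineHom U.ι] (hU : IsAffineOpen U) (hdense : Dense (U : Set X))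
    (hufd : ∀ x : X, x ∉ U → IsDomain (X.presheaf.stalk x) ∧ UniqueFactorizationMonoid (X.presheaf.stalk x)) :
    BlowUp.IsEffCartierIdeal
      (Scheme.IdealSheafData.vanishingIdeal ⟨(U : Set X)ᶜ, U.isOpen.isClosed_compl⟩) := by
  classical
  let Z : TopologicalSpace.Closeds X := ⟨(U : Set X)ᶜ, U.isOpen.isClosed_compl⟩
  let D := Scheme.IdealSheafData.vanishingIdeal Z
  have hsupp : (D.support : Set X) = (U : Set X)ᶜ := by
    simp [D, Z]
  intro x
  by_cases hx : x ∈ U
  · refine ⟨⟨U, hU⟩, hx, 1, one_mem _, ?_⟩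
    rw [Ideal.span_singleton_one, ← PrimeSpectrum.zeroLocus_empty_iff_eq_top, Set.eq_empty_iff_forall_notMem]
    intro q hq
    have hqU : hU.fromSpec q ∈ U := hU.range_fromSpec.subset ⟨q, rfl⟩
    have h1 : hU.fromSpec q ∈ D.support := by
      rw [D.mem_support_iff_of_mem (U := ⟨U, hU⟩) hqU]
      exact (Set.ext_iff.1 (hU.fromSpec_preimage_zeroLocus _) q).2 hq
    rw [← SetLike.mem_coe, hsupp] at h1
    exact h1 hqU
  obtain ⟨W, hW, hxW, -⟩ := exists_isAffineOpen_mem_and_subset (X := X) (U := ⊤) (trivial : x ∈ (⊤ : X.Opens))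
  haveI : IsNoetherianRing Γ(X, W) := IsLocallyNoetherian.component_noetherian ⟨W, hW⟩
  letI := TopCat.Presheaf.algebra_section_stalk X.presheaf (⟨x, hxW⟩ : W)
  haveI := hW.isLocalization_stalk ⟨x, hxW⟩
  obtain ⟨hdom, hufdx⟩ := hufd x hx
  haveI := hdom
  haveI := hufdx
  let p := hW.primeIdealOf ⟨x, hxW⟩
  let R := X.presheaf.stalk x
  haveI : IsNoetherianRing R := IsLocalization.isNoetherianRing p.asIdeal.primeCompl _ inferInstance
  let I := D.ideal ⟨W, hW⟩
  let J : Ideal R := I.map (algebraMap Γ(X, W) R)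
  have hzero : ∀ q, hW.fromSpec q ∈ U ↔ ¬ I ≤ PrimeSpectrum.asIdeal q := fun q => by
    have hqW : hW.fromSpec q ∈ W := hW.range_fromSpec.subset ⟨q, rfl⟩
    have h1 : hW.fromSpec q ∈ D.support ↔ I ≤ q.asIdeal := by
      rw [D.mem_support_iff_of_mem (U := ⟨W, hW⟩) hqW]
      exact Set.ext_iff.1 (hW.fromSpec_preimage_zeroLocus _) q
    rw [← h1, ← SetLike.mem_coe (p := D.support), hsupp]
    exact not_not.symm
  have hIrad : I.IsRadical := by
    intro a ha
    show a ∈ PrimeSpectrum.vanishingIdeal (hW.fromSpec ⁻¹' (Z : Set X))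
    rw [PrimeSpectrum.mem_vanishingIdeal]
    intro q hq
    obtain ⟨n, hn⟩ := ha
    exact q.2.mem_of_pow_mem n ((PrimeSpectrum.mem_vanishingIdeal _ _).1 hn q hq)
  have hJrad : J.IsRadical := by
    rw [← Ideal.radical_eq_iff, ← IsLocalization.map_radical p.asIdeal.primeCompl (X.presheaf.stalk x) I,
      hIrad.radical]
  have hpx : hW.fromSpec p = x := hW.fromSpec_primeIdealOf _
  have hIp : I ≤ p.asIdeal := by
    by_contra h
    exact hx (hpx ▸ (hzero p).2 h)
  -- minimal primes of the trace of the complement on the stalk have height at most one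
  have hht : ∀ q ∈ J.minimalPrimes, q.height ≤ 1 := fun q hq => by
    haveI := hq.1.1
    rw [IsLocalization.minimalPrimes_map p.asIdeal.primeCompl R I] at hq
    have hq' : q.under Γ(X, W) ∈ I.minimalPrimes := hq
    let Q : PrimeSpectrum Γ(X, W) := ⟨q.under Γ(X, W), hq'.1.1⟩
    let y := hW.fromSpec Q
    have hyW : y ∈ W := hW.range_fromSpec.subset ⟨Q, rfl⟩
    have hyU : y ∉ U := fun h => (hzero Q).1 h hq'.1.2
    haveI := hW.isOpenImmersion_fromSpec
    have hgen : ∀ z : X, z ∉ U → z ⤳ y → z = y := fun z hz hzy => by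
      have hzW : z ∈ W := hzy.mem_open W.isOpen hyW
      obtain ⟨P, rfl⟩ : z ∈ Set.range hW.fromSpec := hW.range_fromSpec.symm.subset hzW
      have hIP : I ≤ P.asIdeal := by
        by_contra h
        exact hz ((hzero P).2 h)
      have hPQ : P.asIdeal ≤ q.under Γ(X, W) :=
        (PrimeSpectrum.le_iff_specializes P Q).2 (hW.fromSpec.isEmbedding.isInducing.specializes_iff.1 hzy)
      exact congrArg hW.fromSpec (PrimeSpectrum.ext (le_antisymm hPQ (hq'.2 ⟨P.2, hIP⟩ hPQ)) : P = Q)
    have h1 := Groth.Agent.DimOne.ringKrullDim_stalk_le_one U y hyU hgen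
    letI := TopCat.Presheaf.algebra_section_stalk X.presheaf (⟨y, hyW⟩ : W)
    haveI := hW.isLocalization_stalk ⟨y, hyW⟩
    have hyQ : hW.primeIdealOf ⟨y, hyW⟩ = Q :=
      hW.fromSpec.isOpenEmbedding.injective (hW.fromSpec_primeIdealOf ⟨y, hyW⟩)
    rw [IsLocalization.AtPrime.ringKrullDim_eq_height (hW.primeIdealOf ⟨y, hyW⟩).asIdeal (X.presheaf.stalk y), hyQ] at h1
    rw [← IsLocalization.height_under p.asIdeal.primeCompl q]
    exact_mod_cast h1
  have hJ0 : J ≠ ⊥ := fun e => by
    haveI : (⊥ : Ideal R).IsPrime := Ideal.isPrime_bot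
    let P₀ : PrimeSpectrum Γ(X, W) := ⟨(⊥ : Ideal R).under Γ(X, W), inferInstance⟩
    let y := hW.fromSpec P₀
    have hyW : y ∈ W := hW.range_fromSpec.subset ⟨P₀, rfl⟩
    have hyU : y ∉ U := fun h => (hzero P₀).1 h fun a ha => by
      show algebraMap Γ(X, W) R a ∈ (⊥ : Ideal R)
      rw [← e]
      exact Ideal.mem_map_of_mem _ ha
    refine hyU (Groth.Agent.DimOne.mem_of_dense_of_ringKrullDim_le_zero U hdense y ?_)
    haveI := hW.isOpenImmersion_fromSpec
    letI := TopCat.Presheaf.algebra_section_stalk X.presheaf (⟨y, hyW⟩ : W)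
    haveI := hW.isLocalization_stalk ⟨y, hyW⟩
    have hyQ : hW.primeIdealOf ⟨y, hyW⟩ = P₀ :=
      hW.fromSpec.isOpenEmbedding.injective (hW.fromSpec_primeIdealOf ⟨y, hyW⟩)
    rw [IsLocalization.AtPrime.ringKrullDim_eq_height (hW.primeIdealOf ⟨y, hyW⟩).asIdeal (X.presheaf.stalk y), hyQ,
      IsLocalization.height_under p.asIdeal.primeCompl (⊥ : Ideal R), Ideal.height_bot]
    simp
  obtain ⟨t, ht0, hJt⟩ := Groth.Agent.DimOne.exists_span_of_radical J hJrad hJ0 hht
  obtain ⟨⟨⟨a, haI⟩, s⟩, hts⟩ := (IsLocalization.mem_map_algebraMap_iff p.asIdeal.primeCompl R).1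
    (show t ∈ I.map (algebraMap Γ(X, W) R) by
      show t ∈ J
      rw [hJt]; exact Ideal.mem_span_singleton_self t)
  have hsu : IsUnit (algebraMap Γ(X, W) R s) := IsLocalization.map_units R s
  have hJa : J = Ideal.span {algebraMap Γ(X, W) R a} := by
    rw [hJt, ← hts, mul_comm, Ideal.span_singleton_mul_left_unit hsu]
  have ha0 : algebraMap Γ(X, W) R a ≠ 0 := by
    rw [← hts]; exact mul_ne_zero ht0 hsu.ne_zero
  -- finitely many denominators
  obtain ⟨gens, hgens⟩ := IsNoetherian.noetherian I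
  have h1 : ∀ b : gens, ∃ d : p.asIdeal.primeCompl, ∃ c, d.1 * b.1 = c * a := fun b => by
    have hb : algebraMap Γ(X, W) R b.1 ∈ Ideal.span {algebraMap Γ(X, W) R a} := by
      rw [← hJa]; exact Ideal.mem_map_of_mem _ (hgens.le (Submodule.subset_span b.2))
    obtain ⟨r, hr⟩ := Ideal.mem_span_singleton'.1 hb
    obtain ⟨⟨c, d⟩, hcd⟩ := IsLocalization.surj p.asIdeal.primeCompl r
    have h2 : algebraMap Γ(X, W) R (d.1 * b.1) = algebraMap Γ(X, W) R (c * a) := by
      rw [map_mul, map_mul, ← hr, ← hcd]; ring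
    obtain ⟨u, hu⟩ := (IsLocalization.eq_iff_exists p.asIdeal.primeCompl R).1 h2
    exact ⟨u * d, u.1 * c, by rw [Submonoid.coe_mul]; linear_combination hu⟩
  choose d c hdc using h1
  let Ann : Ideal Γ(X, W) := LinearMap.ker (LinearMap.mulRight Γ(X, W) a)
  obtain ⟨anns, hanns⟩ := IsNoetherian.noetherian Ann
  have h3 : ∀ b : anns, ∃ e : p.asIdeal.primeCompl, e.1 * b.1 = 0 := fun b => by
    have hb : b.1 * a = 0 := hanns.le (Submodule.subset_span b.2)
    have h4 : algebraMap Γ(X, W) R b.1 * algebraMap Γ(X, W) R a = 0 := by rw [← map_mul, hb, map_zero]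
    exact (IsLocalization.map_eq_zero_iff p.asIdeal.primeCompl R b.1).1 ((mul_eq_zero.1 h4).resolve_right ha0)
  choose e he using h3
  let g : Γ(X, W) := (∏ b, (d b).1) * ∏ b, (e b).1
  have hgp : g ∉ p.asIdeal := p.asIdeal.primeCompl.mul_mem (prod_mem fun b _ => (d b).2) (prod_mem fun b _ => (e b).2)
  have hxg : x ∈ X.basicOpen g := by
    have : p ∈ hW.fromSpec ⁻¹ᵁ X.basicOpen g := by rw [hW.fromSpec_preimage_basicOpen]; exact hgp
    have h' : hW.fromSpec p ∈ X.basicOpen g := this
    rwa [hpx] at h'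
  let W' : X.affineOpens := ⟨X.basicOpen g, hW.basicOpen g⟩
  let res : Γ(X, W) ⟶ Γ(X, X.basicOpen g) := X.presheaf.map (homOfLE (X.basicOpen_le g)).op
  letI : Algebra Γ(X, W) Γ(X, X.basicOpen g) := res.hom.toAlgebra
  haveI : IsLocalization.Away g Γ(X, X.basicOpen g) :=
    hW.isLocalization_of_eq_basicOpen g (homOfLE (X.basicOpen_le g)) rfl
  have hgu : IsUnit (res g) := IsLocalization.Away.algebraMap_isUnit g
  have hI' : D.ideal W' = Ideal.span {res a} := by
    rw [show D.ideal W' = I.map res.hom from (D.map_ideal_basicOpen ⟨W, hW⟩ g).symm]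
    refine le_antisymm ?_ ((Ideal.span_singleton_le_iff_mem _).2 (Ideal.mem_map_of_mem _ haI))
    rw [Ideal.map_le_iff_le_comap, ← hgens, Submodule.span_le]
    intro b hb
    have h5 : (g : Γ(X, W)) * b ∈ Ideal.span {a} := by
      have h6 : (d ⟨b, hb⟩).1 ∣ g := dvd_mul_of_dvd_left (Finset.dvd_prod_of_mem _ (Finset.mem_univ _)) _
      obtain ⟨q, hq⟩ := h6
      refine Ideal.mem_span_singleton'.2 ⟨q * c ⟨b, hb⟩, ?_⟩
      rw [hq]
      linear_combination (-q) * hdc ⟨b, hb⟩
    have h7 : res g * res b ∈ Ideal.span {res a} := by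
      obtain ⟨q, hq⟩ := Ideal.mem_span_singleton'.1 h5
      exact Ideal.mem_span_singleton'.2 ⟨res q, by rw [← map_mul, hq, map_mul]⟩
    exact (Ideal.unit_mul_mem_iff_mem _ hgu).1 h7
  refine ⟨W', hxg, res a, ?_, hI'⟩
  rw [mem_nonZeroDivisors_iff_right]
  intro z hz
  obtain ⟨⟨r, _, n, rfl⟩, hr⟩ := IsLocalization.surj (Submonoid.powers g) z
  have h8 : algebraMap Γ(X, W) Γ(X, X.basicOpen g) (r * a) = 0 := by
    rw [map_mul, ← hr]
    show z * _ * res a = 0
    rw [mul_comm z, mul_assoc, hz, mul_zero]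
  obtain ⟨⟨_, m, rfl⟩, hm⟩ := (IsLocalization.map_eq_zero_iff (Submonoid.powers g) Γ(X, X.basicOpen g) _).1 h8
  have h9 : g ^ m * r ∈ Ann := by
    show g ^ m * r * a = 0
    rw [mul_assoc]; exact hm
  rw [← hanns] at h9
  have h10 : g * (g ^ m * r) = 0 := by
    have : Submodule.span Γ(X, W) (anns : Set Γ(X, W)) ≤ LinearMap.ker (LinearMap.mulLeft Γ(X, W) g) := by
      rw [Submodule.span_le]
      intro b hb
      have h11 : (e ⟨b, hb⟩).1 ∣ g := dvd_mul_of_dvd_right (Finset.dvd_prod_of_mem _ (Finset.mem_univ _)) _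
      obtain ⟨q, hq⟩ := h11
      show g * b = 0
      rw [hq]
      linear_combination q * he ⟨b, hb⟩
    exact this h9
  refine ((hgu.pow (m + 1)).mul_right_eq_zero).1 ?_
  refine ((hgu.pow n).mul_left_eq_zero).1 ?_
  have h12 := congrArg res h10
  rw [map_zero] at h12
  replace h12 : res g * (res g ^ m * res r) = 0 :=
    ((map_mul res.hom _ _).trans (congrArg (res.hom g * ·) ((map_mul res.hom _ _).trans (congrArg (· * res.hom r) (map_pow res.hom g m))))).symm.trans h12
  have hr' : z * res g ^ n = res r := by rw [← map_pow]; exact hr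
  calc res g ^ (m + 1) * z * res g ^ n = res g * (res g ^ m * (z * res g ^ n)) := by ring
    _ = 0 := by rw [hr']; exact h12

variable {S : Scheme.{u}}

/-- etale charts of a regular space are regular -/
theorem isRegular_chart {X : Sp S} (hX : IsAlgSpace X)
    (h : EtaleLocally (fun U => IsLocallyNoetherian U ∧ ∀ u : ↥U, IsRegularLocalRing ↥(U.presheaf.stalk u)) X)
    {V : Over S} {b : (yon S).obj V ⟶ X} (hb : RepWith @Etale b) :
    IsLocallyNoetherian V.left ∧ ∀ v : ↥V.left, IsRegularLocalRing ↥(V.left.presheaf.stalk v) := by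
  obtain ⟨U, a, ha, has, hN, hreg⟩ := h
  have hVN : IsLocallyNoetherian V.left := isLocallyNoetherian_chart hX ⟨U, a, ha, has, hN⟩ hb
  refine ⟨hVN, fun v => ?_⟩
  obtain ⟨W, p, q, sq⟩ := exists_pullback hX.diag a b
  have : Etale q.left := (repWith_yon_iff q).1 (repWith_baseChange sq ha)
  have : Etale p.left := (repWith_yon_iff p).1 (repWith_baseChange sq.flip hb)
  have : Surjective q.left := (repWith_yon_iff q).1 (repWith_baseChange sq has)
  obtain ⟨w, rfl⟩ := q.left.surjective v
  exact (S0065.result q.left w).1 ((S0065.result p.left w).2 (hreg _))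

/-- the complement of a dense affine open of a separated regular quasi-compact space is a Cartier divisor -/
theorem exists_effCartierSub [S.IsSeparated] (X : AlgSp.Space S)
    (hreg : EtaleLocally (fun U => IsLocallyNoetherian U ∧ ∀ u : ↥U, IsRegularLocalRing ↥(U.presheaf.stalk u)) X.obj)
    (hqc : IsQuasiCompactSp X.obj) (hsep : IsSeparatedSp X.obj)
    (T : Over S) [IsAffine T.left] (j : (yon S).obj T ⟶ X.obj) (hj : RepWith @IsOpenImmersion j)
    (hdense : Dense (Set.range (Points.ofPt j))) :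
    ∃ (D : AlgSp.Space S) (i : D ⟶ X), IsEffCartierSub i.hom ∧
      Set.range (Points.map i.hom) = (Set.range (Points.ofPt j))ᶜ := by
  have hX := X.property
  have hjo : IsOpen (Set.range (Points.ofPt j)) := (isOpenMap_ofPt (repWith_mono (fun _ _ r hr => by
    have : IsOpenImmersion r := hr
    exact (inferInstance : UniversallyOpen r)) hj)).isOpen_range
  obtain ⟨Z, i, hZ, hi, hir, hired⟩ := SpQS.exists_redInduced hX hjo.isClosed_compl
  refine ⟨⟨Z, hZ⟩, ObjectProperty.homMk i, ⟨hi, ?_⟩, hir⟩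
  have := compactSpace_of_isQuasiCompactSp hqc
  obtain ⟨V, b, hV, hb, hbs⟩ := exists_affine_chart_of_compact hX
  obtain ⟨hVN, hVreg⟩ := isRegular_chart hX hreg hb
  have hbo : IsOpenMap (Points.ofPt b) := isOpenMap_ofPt (repWith_mono (fun _ _ r hr => by
    have : Etale r := hr
    exact (inferInstance : UniversallyOpen r)) hb)
  -- the trace of the affine open
  obtain ⟨P, p, q, sqP⟩ := exists_pullback hX.diag j b
  have : IsOpenImmersion q.left := (repWith_yon_iff q).1 (repWith_baseChange sqP hj)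
  have : IsAffine P.left := (affine_pullback_of_isSeparatedSp hsep sqP).1
  let O : V.left.Opens := q.left.opensRange
  have hOs : (O : Set V.left) = Points.ofPt b ⁻¹' Set.range (Points.ofPt j) := by
    ext v
    constructor
    · rintro ⟨w, rfl⟩
      exact ⟨p.left w, (ofPt_eq_iff sqP _ _).2 ⟨w, rfl, rfl⟩⟩
    · rintro ⟨τ, hτ⟩
      obtain ⟨w, -, hw⟩ := (ofPt_eq_iff sqP _ _).1 hτ
      exact ⟨w, hw⟩
  have hO : IsAffineOpen O := isAffineOpen_opensRange q.left
  have : IsAffineHom O.ι := by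
    have : IsAffine O.toScheme := hO
    have : IsAffineHom (O.ι ≫ terminal.from V.left) := isAffineHom_of_isAffine _
    exact IsAffineHom.of_comp O.ι (terminal.from V.left)
  have hOd : Dense (O : Set V.left) := hOs ▸ hdense.preimage hbo
  -- the trace of the divisor
  obtain ⟨Q, f', g, sqQ, hg⟩ := exists_repWith hi b
  obtain ⟨g', rfl⟩ : ∃ g' : Q ⟶ V, g' = g := ⟨g, rfl⟩
  have : IsClosedImmersion g'.left := hg
  have : IsReduced Q.left := by
    have hf' : RepWith @Etale f' := repWith_baseChange sqQ.flip hb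
    exact StalkPoint.isReduced_chart hZ hired (EtOver.mk f' hf')
  have hrange : Set.range g'.left = (O : Set V.left)ᶜ := by
    rw [hOs, ← Set.preimage_compl, ← hir]
    ext v
    constructor
    · rintro ⟨z, rfl⟩
      refine ⟨Points.ofPt f' z, ?_⟩
      rw [Points.map_ofPt, ← ofPt_comp, sqQ.w]
    · rintro ⟨z, hz⟩
      obtain ⟨U', a', ha', has'⟩ := hZ.atlas
      obtain ⟨u, rfl⟩ := ofPt_surjective has' z
      rw [Points.map_ofPt] at hz
      obtain ⟨W, p₁, p₂, sqW⟩ := exists_pullback hX.diag (a' ≫ i) b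
      obtain ⟨w, -, hw⟩ := (ofPt_eq_iff sqW _ _).1 hz
      obtain ⟨l, hl⟩ := exists_map_eq (sqQ.lift ((yon S).map p₁ ≫ a') ((yon S).map p₂)
        (by rw [Category.assoc]; exact sqW.w))
      refine ⟨l.left w, ?_⟩
      have h2 : l ≫ g' = p₂ := (yon S).map_injective (by rw [Functor.map_comp, hl, sqQ.lift_snd])
      rw [← hw, ← h2]
      rfl
  let I := g'.left.ker
  have hI : I = Scheme.IdealSheafData.vanishingIdeal ⟨(O : Set V.left)ᶜ, O.isOpen.isClosed_compl⟩ := by
    rw [show I = g'.left.ker from rfl, ker_eq_vanishingIdeal g'.left]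
    refine congrArg _ (TopologicalSpace.Closeds.ext ?_)
    rw [Scheme.Hom.support_ker, hrange]
    exact O.isOpen.isClosed_compl.closure_eq
  let e : Over.mk (I.subschemeι ≫ V.hom) ≅ Q :=
    (Over.isoMk (asIso g'.left.toImage) (by
      show g'.left.toImage ≫ g'.left.imageι ≫ V.hom = Q.hom
      rw [Scheme.Hom.toImage_imageι_assoc, Over.w g'])).symm
  refine ⟨V, b, I, (yon S).map e.hom ≫ f', hb, hbs, ?_, hI ▸ ?_⟩
  · refine IsPullback.of_iso sqQ ((yon S).mapIso e.symm) (Iso.refl _) (Iso.refl _) (Iso.refl _) ?_ ?_ (by simp) (by simp)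
    · simp
    · simp only [Functor.mapIso_hom, Iso.symm_hom, Iso.refl_hom, Category.comp_id, ← Functor.map_comp]
      refine congrArg _ (Over.OverMorphism.ext ?_)
      exact g'.left.toImage_imageι.symm
  · refine isEffCartierIdeal_vanishingIdeal V.left O hO hOd fun v _ => ?_
    have := hVreg v
    have : IsDomain (V.left.presheaf.stalk v) := RegLoc.isDomain _
    exact ⟨this, UFDLib.ufd_of_isRegularLocalRing _⟩

end Groth.Agent.SpCartier
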